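import Mathlib
import Cfsg.Agent.Helper17.J1PTC.Orb
import Cfsg.Agent.Helper17.J1Q1TC.Perm
import Cfsg.Agent.Helper17.J1Q2TC.Perm
import Cfsg.Agent.Helper17.J1Q3TC.Perm

set_option autoImplicit false
set_option linter.all false

noncomputable section

namespace Cfsg.Agent.Helper17.J1Ord

open Cfsg.Spor Cfsg.Agent.Helper17.SmallSpor

theorem card_dvd_step' {P G : Type*} [Group P] [Group G] (φ : P →* G) (H : Subgroup G)
    (hH : H = φ.range) (K : Subgroup P) (n m : ℕ) (hidx : K.index = n) (hK : Nat.card K ∣ m) :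
    Nat.card H ∣ n * m := by
  subst hH
  have h1 : Nat.card φ.range ∣ Nat.card P := Subgroup.card_range_dvd φ
  have h2 : Nat.card K * K.index = Nat.card P := Subgroup.card_mul_index K
  rw [← h2, hidx, mul_comm] at h1
  exact h1.trans (Nat.mul_dvd_mul_left n hK)

/-! ### level 1 : J1Q1 → J1P -/

def emb1 : J1Q1.Gen → J1P.Gen
  | .a => .a
  | .b => .b
  | .c => .c
  | .d => .d

def f1 (x : J1Q1.Gen) : J1PTC.G := PresentedGroup.of (emb1 x)

theorem lab1 (x y : J1Q1.Gen) :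
    coxLabel J1Q1.edges x y = coxLabel J1P.edges (emb1 x) (emb1 y) := by
  cases x <;> cases y <;> decide

theorem rel1 : ∀ r ∈ J1Q1TC.Rels, FreeGroup.lift f1 r = 1 := by
  intro r hr
  rcases hr with ⟨x, _, y, _, rfl⟩ | hr
  · rw [map_pow, map_mul, FreeGroup.lift_apply_of, FreeGroup.lift_apply_of, lab1]
    exact J1PTC.cox (emb1 x) (emb1 y)
  · simp only [Set.mem_setOf_eq, J1Q1.extra, List.mem_cons, List.mem_singleton, List.not_mem_nil,
      or_false] at hr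
    rcases hr with rfl | rfl
    · have h := J1PTC.extra_one (r := (J1P.a * J1P.b * J1P.c) ^ 5) (by simp [J1P.extra])
      simpa [f1, emb1, J1PTC.mk_of] using h
    · have h := J1PTC.extra_one (r := (J1P.b * J1P.c * J1P.d) ^ 5) (by simp [J1P.extra])
      simpa [f1, emb1, J1PTC.mk_of] using h

def phi1 : J1Q1TC.G →* J1PTC.G := PresentedGroup.toGroup rel1

theorem phi1_of (x : J1Q1.Gen) : phi1 (PresentedGroup.of x) = f1 x :=
  PresentedGroup.toGroup.of rel1

theorem range1 : J1PTC.Hs = phi1.range := by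
  have h1 : phi1.range = Subgroup.closure (Set.range f1) := by
    rw [MonoidHom.range_eq_map, ← PresentedGroup.closure_range_of, MonoidHom.map_closure]
    congr 1
    ext g
    constructor
    · rintro ⟨_, ⟨x, rfl⟩, rfl⟩; exact ⟨x, (phi1_of x).symm⟩
    · rintro ⟨x, rfl⟩; exact ⟨_, ⟨x, rfl⟩, phi1_of x⟩
  rw [h1, J1PTC.Hs, MonoidHom.map_closure]
  congr 1
  ext g
  constructor
  · rintro ⟨s, hs, rfl⟩
    simp only [Set.mem_insert_iff, Set.mem_singleton_iff] at hs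
    rcases hs with rfl | rfl | rfl | rfl
    · exact ⟨.a, rfl⟩
    · exact ⟨.b, rfl⟩
    · exact ⟨.c, rfl⟩
    · exact ⟨.d, rfl⟩
  · rintro ⟨x, rfl⟩
    cases x
    · exact ⟨J1P.a, by simp, rfl⟩
    · exact ⟨J1P.b, by simp, rfl⟩
    · exact ⟨J1P.c, by simp, rfl⟩
    · exact ⟨J1P.d, by simp, rfl⟩

/-! ### level 2 : J1Q2 → J1Q1 -/

def emb2 : J1Q2.Gen → J1Q1.Gen
  | .a => .a
  | .b => .b
  | .c => .c

def f2 (x : J1Q2.Gen) : J1Q1TC.G := PresentedGroup.of (emb2 x)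

theorem lab2 (x y : J1Q2.Gen) :
    coxLabel J1Q2.edges x y = coxLabel J1Q1.edges (emb2 x) (emb2 y) := by
  cases x <;> cases y <;> decide

theorem rel2 : ∀ r ∈ J1Q2TC.Rels, FreeGroup.lift f2 r = 1 := by
  intro r hr
  rcases hr with ⟨x, _, y, _, rfl⟩ | hr
  · rw [map_pow, map_mul, FreeGroup.lift_apply_of, FreeGroup.lift_apply_of, lab2]
    exact J1Q1TC.cox (emb2 x) (emb2 y)
  · simp only [Set.mem_setOf_eq, J1Q2.extra, List.mem_cons, List.mem_singleton, List.not_mem_nil,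
      or_false] at hr
    rcases hr with rfl
    · have h := J1Q1TC.extra_one (r := (J1Q1.a * J1Q1.b * J1Q1.c) ^ 5) (by simp [J1Q1.extra])
      simpa [f2, emb2, J1Q1TC.mk_of] using h

def phi2 : J1Q2TC.G →* J1Q1TC.G := PresentedGroup.toGroup rel2

theorem phi2_of (x : J1Q2.Gen) : phi2 (PresentedGroup.of x) = f2 x :=
  PresentedGroup.toGroup.of rel2

theorem range2 : J1Q1TC.Hs = phi2.range := by
  have h1 : phi2.range = Subgroup.closure (Set.range f2) := by
    rw [MonoidHom.range_eq_map, ← PresentedGroup.closure_range_of, MonoidHom.map_closure]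
    congr 1
    ext g
    constructor
    · rintro ⟨_, ⟨x, rfl⟩, rfl⟩; exact ⟨x, (phi2_of x).symm⟩
    · rintro ⟨x, rfl⟩; exact ⟨_, ⟨x, rfl⟩, phi2_of x⟩
  rw [h1, J1Q1TC.Hs, MonoidHom.map_closure]
  congr 1
  ext g
  constructor
  · rintro ⟨s, hs, rfl⟩
    simp only [Set.mem_insert_iff, Set.mem_singleton_iff] at hs
    rcases hs with rfl | rfl | rfl
    · exact ⟨.a, rfl⟩
    · exact ⟨.b, rfl⟩
    · exact ⟨.c, rfl⟩
  · rintro ⟨x, rfl⟩
    cases x
    · exact ⟨J1Q1.a, by simp, rfl⟩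
    · exact ⟨J1Q1.b, by simp, rfl⟩
    · exact ⟨J1Q1.c, by simp, rfl⟩

/-! ### level 3 : J1Q3 → J1Q2 -/

def emb3 : J1Q3.Gen → J1Q2.Gen
  | .a => .a
  | .b => .b

def f3 (x : J1Q3.Gen) : J1Q2TC.G := PresentedGroup.of (emb3 x)

theorem lab3 (x y : J1Q3.Gen) :
    coxLabel J1Q3.edges x y = coxLabel J1Q2.edges (emb3 x) (emb3 y) := by
  cases x <;> cases y <;> decide

theorem rel3 : ∀ r ∈ J1Q3TC.Rels, FreeGroup.lift f3 r = 1 := by
  intro r hr
  rcases hr with ⟨x, _, y, _, rfl⟩ | hr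
  · rw [map_pow, map_mul, FreeGroup.lift_apply_of, FreeGroup.lift_apply_of, lab3]
    exact J1Q2TC.cox (emb3 x) (emb3 y)
  · simp [J1Q3.extra] at hr

def phi3 : J1Q3TC.G →* J1Q2TC.G := PresentedGroup.toGroup rel3

theorem phi3_of (x : J1Q3.Gen) : phi3 (PresentedGroup.of x) = f3 x :=
  PresentedGroup.toGroup.of rel3

theorem range3 : J1Q2TC.Hs = phi3.range := by
  have h1 : phi3.range = Subgroup.closure (Set.range f3) := by
    rw [MonoidHom.range_eq_map, ← PresentedGroup.closure_range_of, MonoidHom.map_closure]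
    congr 1
    ext g
    constructor
    · rintro ⟨_, ⟨x, rfl⟩, rfl⟩; exact ⟨x, (phi3_of x).symm⟩
    · rintro ⟨x, rfl⟩; exact ⟨_, ⟨x, rfl⟩, phi3_of x⟩
  rw [h1, J1Q2TC.Hs, MonoidHom.map_closure]
  congr 1
  ext g
  constructor
  · rintro ⟨s, hs, rfl⟩
    simp only [Set.mem_insert_iff, Set.mem_singleton_iff] at hs
    rcases hs with rfl | rfl
    · exact ⟨.a, rfl⟩
    · exact ⟨.b, rfl⟩
  · rintro ⟨x, rfl⟩
    cases x
    · exact ⟨J1Q2.a, by simp, rfl⟩
    · exact ⟨J1Q2.b, by simp, rfl⟩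

/-! ### bottom -/

theorem card_bot : Nat.card J1Q3TC.Hs ∣ 2 := by
  have h : J1Q3TC.Hs = Subgroup.zpowers (J1Q3TC.gG 0) := by
    rw [J1Q3TC.Hs, MonoidHom.map_closure, Set.image_singleton, Subgroup.zpowers_eq_closure]
    rfl
  rw [h, Nat.card_zpowers]
  apply orderOf_dvd_of_pow_eq_one
  rw [pow_two]
  exact J1Q3TC.gG_mul_self 0

theorem idxL1 : J1Q1TC.Hs.index = 11 := by
  rw [Subgroup.index_eq_card]; exact J1Q1TC.card_Q

theorem idxL2 : J1Q2TC.Hs.index = 10 := by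
  rw [Subgroup.index_eq_card]; exact J1Q2TC.card_Q

theorem idxL3 : J1Q3TC.Hs.index = 3 := by
  rw [Subgroup.index_eq_card]; exact J1Q3TC.card_Q

theorem idxTop : J1PTC.Hs.index = 266 := by
  rw [Subgroup.index_eq_card]; exact J1PTC.card_Q

theorem card_Hs_dvd : Nat.card J1PTC.Hs ∣ 660 := by
  have h3 := card_dvd_step' phi3 J1Q2TC.Hs range3 J1Q3TC.Hs 3 _ idxL3 card_bot
  have h2 := card_dvd_step' phi2 J1Q1TC.Hs range2 J1Q2TC.Hs 10 _ idxL2 h3
  have h1 := card_dvd_step' phi1 J1PTC.Hs range1 J1Q1TC.Hs 11 _ idxL1 h2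
  exact h1

theorem card_G_eq : Nat.card J1PTC.G = Nat.card J1PTC.Hs * 266 := by
  rw [← idxTop, Subgroup.card_mul_index]

theorem card_G_dvd : Nat.card J1PTC.G ∣ 175560 := by
  rw [card_G_eq]
  exact (Nat.mul_dvd_mul_right card_Hs_dvd 266).trans (by norm_num)

end Cfsg.Agent.Helper17.J1Ord
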