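import Mathlib
import Cfsg.Agent.Helper17.J1Ord.Upper

/-! Lower bound for the order of the presented group through a stabiliser chain on the coset points, and
consequences: the order, faithfulness of the permutation representation, triviality of the
pointwise stabiliser of the base. -/

set_option autoImplicit false
set_option linter.all false
set_option maxRecDepth 100000

noncomputable section

namespace Cfsg.Agent.Helper17.J1Ord

open Cfsg.Spor Cfsg.Agent.Helper17.J1PTC

theorem phi_prodw (w : List ℕ) (h : ∀ l ∈ w, l < nl) : phi (prodw w) = permw w := by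
  induction w with
  | nil => simp [prodw, permw]
  | cons l w ih =>
    rw [prodw, permw, map_mul, phi_gG (h l (List.mem_cons_self ..)),
      ih (fun x hx => h x (List.mem_cons_of_mem _ hx))]

theorem phi_prodw_apply (w : List ℕ) (h : ∀ l ∈ w, l < nl) (i : ℕ) :
    phi (prodw w) i = evalw w i := by
  rw [phi_prodw w h, permw_apply]

/-- the stabiliser of a point under `phi`. -/
def stabP (β : ℕ) : Subgroup G := (MulAction.stabilizer (Equiv.Perm ℕ) β).comap phi

theorem mem_stabP {β : ℕ} {g : G} : g ∈ stabP β ↔ phi g β = β := by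
  rw [stabP, Subgroup.mem_comap, MulAction.mem_stabilizer_iff, Equiv.Perm.smul_def]

/-- pointwise stabiliser of a list of points. -/
def Kof : List ℕ → Subgroup G
  | [] => ⊤
  | b :: bs => Kof bs ⊓ stabP b

theorem mem_Kof {bs : List ℕ} {g : G} : g ∈ Kof bs ↔ ∀ b ∈ bs, phi g b = b := by
  induction bs with
  | nil => simp [Kof]
  | cons b bs ih =>
    rw [Kof, Subgroup.mem_inf, ih, mem_stabP]
    simp only [List.mem_cons, forall_eq_or_imp]
    tauto

theorem step [Finite G] (K : Subgroup G) (β : ℕ) (O : Finset ℕ)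
    (h : ∀ p ∈ O, ∃ k ∈ K, phi k β = p) :
    O.card * Nat.card ↥(K ⊓ stabP β) ≤ Nat.card K := by
  classical
  set S : Subgroup K := (stabP β).subgroupOf K with hS
  have hcard : Nat.card S = Nat.card ↥(K ⊓ stabP β) := by
    rw [hS, ← Subgroup.inf_subgroupOf_left]
    exact Nat.card_congr (Subgroup.subgroupOfEquivOfLe inf_le_left).toEquiv
  have hidx : O.card ≤ S.index := by
    rw [Subgroup.index_eq_card]
    choose! f hfK hf using h
    have : Function.Injective (fun p : O => ((⟨f p.1, hfK p.1 p.2⟩ : K) : K ⧸ S)) := by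
      intro p q hpq
      simp only at hpq
      rw [QuotientGroup.eq] at hpq
      rw [hS, Subgroup.mem_subgroupOf, mem_stabP] at hpq
      simp only [Subgroup.coe_mul, Subgroup.coe_inv, map_mul, map_inv,
        Equiv.Perm.mul_apply] at hpq
      rw [hf q.1 q.2, Equiv.Perm.inv_eq_iff_eq, hf p.1 p.2] at hpq
      exact Subtype.ext hpq.symm
    have := Nat.card_le_card_of_injective _ this
    simpa using this
  calc O.card * Nat.card ↥(K ⊓ stabP β) = O.card * Nat.card S := by rw [hcard]
    _ ≤ S.index * Nat.card S := Nat.mul_le_mul_right _ hidx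
    _ = Nat.card K := by rw [mul_comm]; exact Subgroup.card_mul_index S

/-! ### tree certificates -/

def chkTree (W : List (List ℕ)) : List (ℕ × ℕ × ℕ) → ℕ → Bool
  | [], _ => true
  | (p, q, k) :: t, m =>
    m.testBit q && !m.testBit p && (evalw (W.getD k []) q == p) &&
      chkTree W t (m ||| (1 <<< p))

def wordsOK (bs : List ℕ) (W : List (List ℕ)) : Bool :=
  W.all fun w => (w.all fun l => decide (l < nl)) && bs.all fun b => evalw w b == b

theorem word_mem {bs : List ℕ} {W : List (List ℕ)} (h : wordsOK bs W = true) (k : ℕ) :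
    (∀ l ∈ W.getD k [], l < nl) ∧ prodw (W.getD k []) ∈ Kof bs := by
  by_cases hk : k < W.length
  · have hm : W.getD k [] ∈ W := by
      rw [List.getD_eq_getElem _ _ hk]; exact List.getElem_mem hk
    simp only [wordsOK, List.all_eq_true, Bool.and_eq_true, decide_eq_true_eq, beq_iff_eq] at h
    obtain ⟨h1, h2⟩ := h _ hm
    refine ⟨h1, ?_⟩
    rw [mem_Kof]
    intro b hb
    rw [phi_prodw_apply _ h1]
    exact h2 b hb
  · rw [List.getD_eq_default _ _ (not_lt.mp hk)]
    exact ⟨by simp, by simp [prodw, (Kof bs).one_mem]⟩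

theorem testBit_lor_shift (m p x : ℕ) :
    (m ||| (1 <<< p)).testBit x = (m.testBit x || decide (p = x)) := by
  rw [Nat.testBit_or, Nat.one_shiftLeft, Nat.testBit_two_pow]

theorem reach_of_chkTree {bs : List ℕ} {W : List (List ℕ)} (hW : wordsOK bs W = true) (β : ℕ) :
    ∀ (l : List (ℕ × ℕ × ℕ)) (m : ℕ) (seen : List ℕ),
      (∀ x, m.testBit x = true ↔ x ∈ seen) → seen.Nodup →
      (∀ p ∈ seen, ∃ g ∈ Kof bs, phi g β = p) → chkTree W l m = true →
      ∃ S : Finset ℕ, S.card = seen.length + l.length ∧ ∀ p ∈ S, ∃ g ∈ Kof bs, phi g β = p := by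
  intro l
  induction l with
  | nil =>
    intro m seen _ hnd hs _
    refine ⟨seen.toFinset, ?_, ?_⟩
    · rw [List.toFinset_card_of_nodup hnd]; simp
    · intro p hp; exact hs p (List.mem_toFinset.mp hp)
  | cons x t ih =>
    obtain ⟨p, q, k⟩ := x
    intro m seen hm hnd hs hc
    simp only [chkTree, Bool.and_eq_true, Bool.not_eq_eq_eq_not, Bool.not_true,
      beq_iff_eq] at hc
    obtain ⟨⟨⟨hq, hp⟩, he⟩, ht⟩ := hc
    have hq' : q ∈ seen := (hm q).mp hq
    have hp' : p ∉ seen := by
      intro h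
      have := (hm p).mpr h
      rw [hp] at this
      exact Bool.false_ne_true this
    have hA : ∀ x, (m ||| (1 <<< p)).testBit x = true ↔ x ∈ p :: seen := by
      intro x
      rw [testBit_lor_shift, Bool.or_eq_true, hm x, decide_eq_true_eq, List.mem_cons]
      constructor
      · rintro (h | h)
        · exact Or.inr h
        · exact Or.inl h.symm
      · rintro (h | h)
        · exact Or.inr h.symm
        · exact Or.inl h
    have hB : (p :: seen).Nodup := List.nodup_cons.mpr ⟨hp', hnd⟩
    have hC : ∀ p' ∈ p :: seen, ∃ g ∈ Kof bs, phi g β = p' := by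
      intro p' hp''
      rcases List.mem_cons.mp hp'' with rfl | hp''
      · obtain ⟨g, hg, hgq⟩ := hs q hq'
        obtain ⟨hl, hmw⟩ := word_mem hW k
        refine ⟨prodw (W.getD k []) * g, (Kof bs).mul_mem hmw hg, ?_⟩
        rw [map_mul, Equiv.Perm.mul_apply, hgq, phi_prodw_apply _ hl, he]
      · exact hs p' hp''
    obtain ⟨S, hS, hS2⟩ := ih (m ||| (1 <<< p)) (p :: seen) hA hB hC ht
    refine ⟨S, ?_, hS2⟩
    rw [hS, List.length_cons, List.length_cons]; omega

theorem level [Finite G] {bs : List ℕ} {W : List (List ℕ)} (hW : wordsOK bs W = true) (β : ℕ)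
    (T : List (ℕ × ℕ × ℕ)) (hT : chkTree W T (1 <<< β) = true) (n : ℕ)
    (hn : T.length + 1 = n) :
    n * Nat.card ↥(Kof (β :: bs)) ≤ Nat.card ↥(Kof bs) := by
  have hA : ∀ x, (1 <<< β).testBit x = true ↔ x ∈ [β] := by
    intro x
    rw [Nat.one_shiftLeft, Nat.testBit_two_pow, decide_eq_true_eq, List.mem_singleton]
    exact eq_comm
  have hB : [β].Nodup := by simp
  have hC : ∀ p ∈ [β], ∃ g ∈ Kof bs, phi g β = p := by
    intro p hp
    rw [List.mem_singleton] at hp
    subst hp
    exact ⟨1, (Kof bs).one_mem, by simp⟩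
  obtain ⟨S, hS, hS2⟩ := reach_of_chkTree hW β T (1 <<< β) [β] hA hB hC hT
  have hcard : S.card = n := by rw [hS, ← hn]; simp; omega
  rw [← hcard]
  exact step (Kof bs) β S hS2

def W3 : List (List ℕ) :=
   [[0],
    [1],
    [2],
    [3, 2, 1, 2, 3, 1, 2, 1, 2, 3],
    [3, 2, 1, 0, 2, 1, 2, 0, 1, 2, 0, 1, 2, 3]]

def T3 : List (ℕ × ℕ × ℕ) :=
  [(33, 25, 0), (36, 25, 1), (37, 25, 2), (43, 25, 3), (65, 25, 4), (45, 33, 1), (47, 33, 2), (180, 33, 3), (46, 33, 4), (51, 36, 2), (59, 36, 3), (53, 37, 1), (63, 37, 3), (102, 37, 4), (61, 43, 0), (127, 43, 4), (95, 65, 2), (110, 65, 3), (66, 45, 2), (144, 45, 3), (70, 47, 1), (136, 47, 3), (80, 47, 4), (211, 180, 0), (128, 180, 4), (68, 46, 2), (145, 46, 3), (77, 51, 1), (81, 51, 3), (140, 51, 4), (76, 59, 0), (151, 59, 4), (92, 63, 0), (90, 63, 4), (142, 102, 2), (187, 102, 3), (174, 61, 3), (168, 127, 2), (154, 127, 3), (132, 95, 1), (141, 95, 3), (135, 95, 4), (150, 110, 0), (97, 66, 1), (103, 66, 3), (190, 144, 0), (186, 144, 4), (170, 136, 0),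 (117, 80, 2), (155, 128, 3), (100, 68, 1), (175, 68, 3), (114, 68, 4), (112, 81, 4), (185, 140, 2), (197, 151, 2), (200, 92, 3), (202, 90, 3), (195, 154, 0)]

theorem wOK3 : wordsOK [1, 0] W3 = true := by decide +kernel

theorem finG : Finite G := by
  apply Nat.finite_of_card_ne_zero
  intro h
  have := card_G_dvd
  rw [h] at this
  norm_num at this

theorem lev1 : 266 * Nat.card ↥(Kof [0]) ≤ Nat.card G := by
  haveI := finG
  have h := step (⊤ : Subgroup G) 0 (Finset.range N) (by
    intro p hp
    rw [Finset.mem_range] at hp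
    obtain ⟨g, hg⟩ : ∃ g : G, nd p = g • n0 := by
      induction (nd p) using QuotientGroup.induction_on with
      | H g => exact ⟨g, by simp [n0, MulAction.Quotient.smul_mk]⟩
    refine ⟨g, Subgroup.mem_top g, ?_⟩
    have h1 := hpsi p hp
    rw [hg] at h1
    unfold psiQ at h1
    rw [TCG.psi_smul] at h1
    have h0 := psi_n0
    unfold psiQ at h0
    rw [h0] at h1
    exact h1)
  rw [Finset.card_range, Subgroup.card_top] at h
  exact h

theorem Kof0 : Kof [0] = Hs := by
  ext g
  rw [mem_Kof]
  simp only [List.mem_singleton, forall_eq]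
  constructor
  · intro h
    have h1 : psiQ (g • n0) = psiQ n0 := by
      unfold psiQ
      rw [TCG.psi_smul]
      have h0 := psi_n0
      unfold psiQ at h0
      rw [h0, h]
    have h2 := psi_inj h1
    unfold n0 at h2
    rw [MulAction.Quotient.smul_mk, QuotientGroup.eq] at h2
    simpa using Hs.inv_mem h2
  · intro h
    exact hH g h

theorem lev2 : 11 * Nat.card ↥(Kof [1, 0]) ≤ Nat.card ↥(Kof [0]) := by
  haveI := finG
  have h := step (Kof [0]) 1 ((Finset.range N).filter (fun i => oid i = 1)) (by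
    intro p hp
    rw [Finset.mem_filter, Finset.mem_range] at hp
    obtain ⟨h, hh, e⟩ := orb_reach 1 (odep p) p hp.1 rfl hp.2
    exact ⟨h, Kof0 ▸ hh, e⟩)
  have hc : ((Finset.range N).filter (fun i => oid i = 1)).card = 11 := by decide +kernel
  rw [hc] at h
  exact h

theorem lev3 : 60 * Nat.card ↥(Kof [25, 1, 0]) ≤ Nat.card ↥(Kof [1, 0]) := by
  haveI := finG
  exact level wOK3 25 T3 (by decide +kernel) 60 (by decide +kernel)

theorem card_lower : 175560 * Nat.card ↥(Kof [25, 1, 0]) ≤ Nat.card G := by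
  have h1 := lev1
  have h2 := lev2
  have h3 := lev3
  have key : ∀ a b c : ℕ, a * b ≤ c → ∀ m, m * a * b ≤ m * c := by
    intro a b c h m; rw [mul_assoc]; exact Nat.mul_le_mul_left m h
  have g1 : 266 * Nat.card ↥(Kof [0]) ≤ Nat.card G := h1
  have g2 : 2926 * Nat.card ↥(Kof [1, 0]) ≤ Nat.card G := by
    have := Nat.mul_le_mul_left 266 h2
    rw [← mul_assoc] at this
    exact (show 2926 * Nat.card ↥(Kof [1, 0]) = 266 * 11 * Nat.card ↥(Kof [1, 0]) by norm_num).le.trans (this.trans g1)
  have g3 : 175560 * Nat.card ↥(Kof [25, 1, 0]) ≤ Nat.card G := by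
    have := Nat.mul_le_mul_left 2926 h3
    rw [← mul_assoc] at this
    exact (show 175560 * Nat.card ↥(Kof [25, 1, 0]) = 2926 * 60 * Nat.card ↥(Kof [25, 1, 0]) by norm_num).le.trans (this.trans g2)
  exact g3

theorem card_G : Nat.card G = 175560 := by
  haveI := finG
  have h1 := card_lower
  have hpos : 0 < Nat.card ↥(Kof [25, 1, 0]) := Nat.card_pos
  have h2 := Nat.le_of_dvd (by norm_num) card_G_dvd
  nlinarith

theorem card_Kbase : Nat.card ↥(Kof [25, 1, 0]) = 1 := by
  haveI := finG
  have h1 := card_lower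
  have hpos : 0 < Nat.card ↥(Kof [25, 1, 0]) := Nat.card_pos
  rw [card_G] at h1
  nlinarith

/-- an element fixing the base points is trivial. -/
theorem eq_one_of_fix {g : G} (h : ∀ b ∈ [25, 1, 0], phi g b = b) : g = 1 := by
  have hm : g ∈ Kof [25, 1, 0] := mem_Kof.mpr h
  have hb : Kof [25, 1, 0] = ⊥ := Subgroup.card_eq_one.mp card_Kbase
  rw [hb] at hm
  exact Subgroup.mem_bot.mp hm

theorem phi_injective : Function.Injective phi := by
  rw [injective_iff_map_eq_one]
  intro g hg
  apply eq_one_of_fix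
  intro b _
  rw [hg, Equiv.Perm.one_apply]

/-- word identity test via the base. -/
def chkBase (w : List ℕ) : Bool :=
  (w.all fun l => decide (l < nl)) && [25, 1, 0].all fun b => evalw w b == b

theorem prodw_eq_one {w : List ℕ} (h : chkBase w = true) : prodw w = 1 := by
  simp only [chkBase, Bool.and_eq_true, List.all_eq_true, decide_eq_true_eq, beq_iff_eq] at h
  apply eq_one_of_fix
  intro b hb
  rw [phi_prodw_apply _ h.1]
  exact h.2 b hb

end Cfsg.Agent.Helper17.J1Ord
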